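import Cfsg.Agent.LieClassical.SLGen

/-!
# Elements inducing inverse transposition on an image of `SL_n(K)` (helper335)

* `tau d` : `A ↦ D A⁻ᵀ D`, `D = diag(d)`, `d² = 1`;
* `exists_tau` : an involution `z` of `Y` mapping `φ(t_ab(c))` to `φ(t_ba(± c))` acts on `φ(SL_n(K))` as some `tau d`;
* `exists_S` : if `H = Hᵀ`, `Xᵀ H = H X`, `det H = det D` then `S = D H` satisfies `tau S = S⁻¹`, `tau (S X S⁻¹) = X⁻¹`;
* `invol` : then `z φ(S)` is an involution inverting `φ(X)`.
-/

set_option autoImplicit false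
set_option linter.unusedSectionVars false

namespace Cfsg.Agent.H335.Sr

open Matrix
open scoped commutatorElement

variable {ι : Type*} [DecidableEq ι] [Fintype ι] {K : Type*} [Field K]

theorem diag_sq {d : ι → K} (hd : ∀ a, d a * d a = 1) : (diagonal d : Matrix ι ι K) * diagonal d = 1 := by
  rw [diagonal_mul_diagonal]
  simp only [hd]
  exact diagonal_one

/-- `A ↦ D A⁻ᵀ D` -/
noncomputable def tau (d : ι → K) (hd : ∀ a, d a * d a = 1) :
    SpecialLinearGroup ι K →* SpecialLinearGroup ι K where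
  toFun A := ⟨diagonal d * (A⁻¹ : SpecialLinearGroup ι K).1ᵀ * diagonal d, by
    have h1 : ((A⁻¹ : SpecialLinearGroup ι K).1).det = 1 := (A⁻¹ : SpecialLinearGroup ι K).2
    rw [det_mul, det_mul, det_transpose, h1, mul_one, ← det_mul, diag_sq hd, det_one]⟩
  map_one' := by
    apply Subtype.ext
    show diagonal d * ((1 : SpecialLinearGroup ι K)⁻¹).1ᵀ * diagonal d = 1
    rw [inv_one]
    show diagonal d * (1 : Matrix ι ι K)ᵀ * diagonal d = 1
    rw [transpose_one, mul_one, diag_sq hd]
  map_mul' A B := by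
    apply Subtype.ext
    show diagonal d * ((A * B)⁻¹ : SpecialLinearGroup ι K).1ᵀ * diagonal d =
      diagonal d * (A⁻¹ : SpecialLinearGroup ι K).1ᵀ * diagonal d *
        (diagonal d * (B⁻¹ : SpecialLinearGroup ι K).1ᵀ * diagonal d)
    rw [_root_.mul_inv_rev]
    show diagonal d * ((B⁻¹ : SpecialLinearGroup ι K).1 * (A⁻¹ : SpecialLinearGroup ι K).1)ᵀ * diagonal d = _
    rw [transpose_mul]
    calc diagonal d * ((A⁻¹ : SpecialLinearGroup ι K).1ᵀ * (B⁻¹ : SpecialLinearGroup ι K).1ᵀ) * diagonal d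
        = diagonal d * (A⁻¹ : SpecialLinearGroup ι K).1ᵀ * 1 * (B⁻¹ : SpecialLinearGroup ι K).1ᵀ * diagonal d := by
          rw [mul_one]; simp only [Matrix.mul_assoc]
      _ = _ := by
          rw [← diag_sq hd]; simp only [Matrix.mul_assoc]

theorem coe_tau (d : ι → K) (hd : ∀ a, d a * d a = 1) (A : SpecialLinearGroup ι K) :
    (tau d hd A).1 = diagonal d * (A⁻¹ : SpecialLinearGroup ι K).1ᵀ * diagonal d := rfl

theorem tau_transvection (d : ι → K) (hd : ∀ a, d a * d a = 1) {a b : ι} (hab : a ≠ b) (c : K) :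
    tau d hd (SpecialLinearGroup.transvection hab c) =
      SpecialLinearGroup.transvection hab.symm (-(d b * d a) * c) := by
  apply Subtype.ext
  rw [coe_tau, SpecialLinearGroup.transvection_inv, SpecialLinearGroup.transvection_coe,
    SpecialLinearGroup.transvection_coe, transpose_add, transpose_one, transpose_single, Matrix.mul_add, Matrix.add_mul,
    mul_one, diag_sq hd]
  congr 1
  ext i j
  rw [mul_diagonal, diagonal_mul, single_apply, single_apply]
  by_cases h : b = i ∧ a = j
  · obtain ⟨rfl, rfl⟩ := h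
    simp only [and_self, if_true]
    ring
  · rw [if_neg h, if_neg h]
    ring

section Exists

variable {Y : Type*} [Group Y] [Nontrivial ι]

/-- **the signs come from a diagonal matrix** -/
theorem exists_tau {φ : SpecialLinearGroup ι K →* Y} {z : Y} (hz2 : z * z = 1) {η : ι → ι → K}
    (hη : ∀ a b, η a b * η a b = 1)
    (hz : ∀ a b (hab : a ≠ b) (c : K), z * φ (SpecialLinearGroup.transvection hab c) * z⁻¹ =
      φ (SpecialLinearGroup.transvection hab.symm (η a b * c)))
    (hinj : ∀ a b (hab : a ≠ b) (c c' : K), φ (SpecialLinearGroup.transvection hab c) =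
      φ (SpecialLinearGroup.transvection hab c') → c = c') :
    ∃ (d : ι → K) (hd : ∀ a, d a * d a = 1), ∀ A, z * φ A * z⁻¹ = φ (tau d hd A) := by
  have hsym : ∀ a b, a ≠ b → η b a = η a b := by
    intro a b hab
    have h1 : z * (z * φ (SpecialLinearGroup.transvection hab 1) * z⁻¹) * z⁻¹ =
        φ (SpecialLinearGroup.transvection hab 1) := by
      have : z * (z * φ (SpecialLinearGroup.transvection hab 1) * z⁻¹) * z⁻¹ =
        (z * z) * φ (SpecialLinearGroup.transvection hab 1) * (z * z)⁻¹ := by group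
      rw [this, hz2, one_mul, inv_one, mul_one]
    rw [hz a b hab, hz b a hab.symm] at h1
    have h2 := hinj a b hab _ _ h1
    rw [mul_one] at h2
    calc η b a = η b a * (η a b * η a b) := by rw [hη, mul_one]
      _ = (η b a * η a b) * η a b := by ring
      _ = η a b := by rw [h2, one_mul]
  have hmul : ∀ a b c, a ≠ b → b ≠ c → a ≠ c → η a c = -(η a b * η b c) := by
    intro a b c hab hbc hac
    have h1 : z * φ ⁅(SpecialLinearGroup.transvection hab (1 : K) : SpecialLinearGroup ι K),
        SpecialLinearGroup.transvection hbc 1⁆ * z⁻¹ = z * φ (SpecialLinearGroup.transvection hac (1 * 1)) * z⁻¹ := by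
      rw [Cfsg.Agent.LieClassical.SLGen.commutator_transvection hac hab hbc]
    have h2 : z * φ ⁅(SpecialLinearGroup.transvection hab (1 : K) : SpecialLinearGroup ι K),
        SpecialLinearGroup.transvection hbc 1⁆ * z⁻¹ =
        ⁅z * φ (SpecialLinearGroup.transvection hab (1 : K)) * z⁻¹,
          z * φ (SpecialLinearGroup.transvection hbc (1 : K)) * z⁻¹⁆ := by
      rw [map_commutatorElement, commutatorElement_def, commutatorElement_def]
      group
    rw [h2, hz a b hab, hz b c hbc, hz a c hac, ← map_commutatorElement, ← commutatorElement_inv,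
      Cfsg.Agent.LieClassical.SLGen.commutator_transvection hac.symm hbc.symm hab.symm,
      SpecialLinearGroup.transvection_inv] at h1
    have h3 := hinj c a hac.symm _ _ h1
    rw [mul_one, mul_one, mul_one, mul_one] at h3
    rw [← h3]
    ring
  obtain ⟨o⟩ : Nonempty ι := ⟨(exists_pair_ne ι).choose⟩
  refine ⟨fun a => if a = o then 1 else -η a o, fun a => ?_, fun A => ?_⟩
  · by_cases h : a = o
    · simp [h]
    · simp only [h, if_false]
      rw [neg_mul_neg, hη]
  refine Cfsg.Agent.LieClassical.SLGen.transvection_induction (fun A => z * φ A * z⁻¹ = φ (tau _ _ A)) ?_ ?_ A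
  · intro a b hab c
    rw [hz a b hab, tau_transvection]
    congr 2
    have key : η a b = -((if b = o then (1 : K) else -η b o) * (if a = o then (1 : K) else -η a o)) := by
      by_cases ha : a = o
      · subst ha
        rw [if_neg hab.symm, if_pos rfl, mul_one, neg_neg]
        exact (hsym a b hab).symm
      · by_cases hb : b = o
        · subst hb
          rw [if_pos rfl, if_neg ha, one_mul, neg_neg]
        · rw [if_neg hb, if_neg ha, neg_mul_neg, hmul a o b ha (fun h => hb h.symm) hab, hsym b o hb]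
          ring
    rw [key]
  · intro A B hA hB
    rw [map_mul, map_mul, map_mul, ← hA, ← hB]
    group

end Exists

/-- the matrix `S = D H` -/
theorem exists_S {d : ι → K} (hd : ∀ a, d a * d a = 1) (X : SpecialLinearGroup ι K) {H : Matrix ι ι K} (hH : Hᵀ = H)
    (hX : X.1ᵀ * H = H * X.1) (hdet : H.det = ∏ a, d a) :
    ∃ S : SpecialLinearGroup ι K, tau d hd S = S⁻¹ ∧ tau d hd (S * X * S⁻¹) = X⁻¹ := by
  have hD := diag_sq hd
  have hdd : (diagonal d * H).det = 1 := by
    rw [det_mul, det_diagonal, hdet, ← Finset.prod_mul_distrib]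
    exact Finset.prod_eq_one fun a _ => hd a
  have hHu : IsUnit H.det := by
    rw [hdet]
    refine IsUnit.of_mul_eq_one (∏ a, d a) ?_
    rw [← Finset.prod_mul_distrib]
    exact Finset.prod_eq_one fun a _ => hd a
  set S : SpecialLinearGroup ι K := ⟨diagonal d * H, hdd⟩ with hS
  have hSinv : (S⁻¹ : SpecialLinearGroup ι K).1 = H⁻¹ * diagonal d := by
    have h1 : (H⁻¹ * diagonal d) * S.1 = 1 := by
      show (H⁻¹ * diagonal d) * (diagonal d * H) = 1
      rw [Matrix.mul_assoc, ← Matrix.mul_assoc (diagonal d), hD, Matrix.one_mul, nonsing_inv_mul H hHu]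
    have h2 : S.1 * (S⁻¹ : SpecialLinearGroup ι K).1 = 1 := by
      have := congrArg Subtype.val (mul_inv_cancel S)
      exact this
    calc (S⁻¹ : SpecialLinearGroup ι K).1 = ((H⁻¹ * diagonal d) * S.1) * (S⁻¹ : SpecialLinearGroup ι K).1 := by
          rw [h1, Matrix.one_mul]
      _ = (H⁻¹ * diagonal d) * (S.1 * (S⁻¹ : SpecialLinearGroup ι K).1) := Matrix.mul_assoc _ _ _
      _ = _ := by rw [h2, Matrix.mul_one]
  have hHi : (H⁻¹)ᵀ = H⁻¹ := by rw [transpose_nonsing_inv, hH]
  have hT1 : tau d hd S = S⁻¹ := by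
    apply Subtype.ext
    rw [coe_tau, hSinv, transpose_mul, diagonal_transpose, hHi]
    calc diagonal d * (diagonal d * H⁻¹) * diagonal d = (diagonal d * diagonal d) * H⁻¹ * diagonal d := by
          simp only [Matrix.mul_assoc]
      _ = H⁻¹ * diagonal d := by rw [hD, Matrix.one_mul]
  refine ⟨S, hT1, ?_⟩
  rw [map_mul, map_mul, map_inv, hT1, inv_inv]
  -- `S⁻¹ tau(X) S = X⁻¹`
  have h1 : (S⁻¹ * tau d hd X * S : SpecialLinearGroup ι K) * X = 1 := by
    apply Subtype.ext
    show (S⁻¹ : SpecialLinearGroup ι K).1 * (tau d hd X).1 * (diagonal d * H) * X.1 = 1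
    rw [hSinv, coe_tau]
    have e1 : H⁻¹ * diagonal d * (diagonal d * (X⁻¹ : SpecialLinearGroup ι K).1ᵀ * diagonal d) * (diagonal d * H) *
        X.1 = H⁻¹ * (diagonal d * diagonal d) * (X⁻¹ : SpecialLinearGroup ι K).1ᵀ * (diagonal d * diagonal d) *
          (H * X.1) := by simp only [Matrix.mul_assoc]
    rw [e1, hD, Matrix.mul_one, Matrix.mul_one, ← hX]
    have e2 : (X⁻¹ : SpecialLinearGroup ι K).1ᵀ * X.1ᵀ = 1 := by
      rw [← transpose_mul]
      have : X.1 * (X⁻¹ : SpecialLinearGroup ι K).1 = 1 := congrArg Subtype.val (mul_inv_cancel X)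
      rw [this, transpose_one]
    calc H⁻¹ * (X⁻¹ : SpecialLinearGroup ι K).1ᵀ * (X.1ᵀ * H)
        = H⁻¹ * ((X⁻¹ : SpecialLinearGroup ι K).1ᵀ * X.1ᵀ) * H := by simp only [Matrix.mul_assoc]
      _ = 1 := by rw [e2, Matrix.mul_one, nonsing_inv_mul H hHu]
  exact eq_inv_of_mul_eq_one_left h1

/-- abstract: `z Φ(S)` is an involution inverting `Φ(X)` -/
theorem invol {L Y : Type*} [Group L] [Group Y] {Φ : L →* Y} {z : Y} (hz2 : z * z = 1) {τ : L → L}
    (hz : ∀ A, z * Φ A * z⁻¹ = Φ (τ A)) {S X : L} (h1 : τ S = S⁻¹) (h2 : τ (S * X * S⁻¹) = X⁻¹) :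
    (z * Φ S) * (z * Φ S) = 1 ∧ (z * Φ S) * Φ X * (z * Φ S)⁻¹ = (Φ X)⁻¹ := by
  constructor
  · have h3 := hz S
    rw [h1, map_inv] at h3
    have h4 : z * Φ S = (Φ S)⁻¹ * z := by rw [← h3]; group
    calc (z * Φ S) * (z * Φ S) = ((Φ S)⁻¹ * z) * (z * Φ S) := by rw [h4]
      _ = (Φ S)⁻¹ * (z * z) * Φ S := by group
      _ = 1 := by rw [hz2]; group
  · have h3 := hz (S * X * S⁻¹)
    rw [h2, map_inv, map_mul, map_mul, map_inv] at h3
    rw [← h3]
    group

end Cfsg.Agent.H335.Sr
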