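import Cfsg.Agent.H335.Sr.NZero
import Cfsg.Agent.H335.Sr.Transp
import Cfsg.Agent.OddHalf.NI.ModelChev

/-!
# Involutions inverting the torus and inducing inverse transposition on blocks (helper335)

* `ZD hp cs w γ ε z` : `z² = 1`, `z` normalises the torus, `z x_{±α_i}(t) z⁻¹ = x_{∓α_{γ i}}(ε_i t)`, and `z` acts on all root
  groups with signs;
* `exists_ZD_neg` : `w = -1`;  `exists_ZD` : `w = -γ`, `det` of the Cartan matrix odd: all signs `ε` (with `ε γ = ε`) occur;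
* `ZD.tor` : `z` inverts the `γ`-invariant elements of the torus;
* `ZD.block` : `z φ(A) z⁻¹ = φ(D A⁻ᵀ D)` for a block `φ` of type `A` whose roots are negated by `w`;
* `ZD.inv_block` : `s₀ φ(X)` is inverted by an element of square one, if `X` has symmetric intertwiners.
-/

set_option autoImplicit false
set_option linter.unusedSectionVars false

namespace Cfsg.Agent.H335.Sr

open CoxeterSystem Cfsg Cfsg.Lie Cfsg.Lie.ChevalleyDatum
open Cfsg.Agent.ChevalleyStructure Cfsg.Agent.ChevalleyStructure.Elts Cfsg.Agent.ChevalleyStructure.CoxeterGeom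
  Cfsg.Agent.ChevalleyStructure.CoxeterGeomTypes Cfsg.Agent.ChevalleyStructure.NPerm
open Cfsg.Agent.Tits.Roots Cfsg.Agent.Tits.Core Cfsg.Agent.Nodes Cfsg.Agent.Nodes.Reps Cfsg.Agent.Nodes.BNOf
  Cfsg.Agent.Nodes.RGDChev Cfsg.Agent.Nodes.Bruhat
open Cfsg.Agent.KFacts.RgdField Cfsg.Agent.KFacts.RgdChevCoord Cfsg.Agent.BpExc.TorCent Cfsg.Agent.BpExc.TorChev
open Cfsg.Agent.H129.TorusChar

universe u

variable {D : ChevalleyDatum} {l : ℕ} {M : CoxeterMatrix (Fin l)} (hp : IsType D l M) {K : Type u} [Field K]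
  {W : Type*} [Group W] (cs : CoxeterSystem M W)

/-- the data of an involution `z` over `w = -γ` -/
structure ZD (w : W) (γ : Fin l → Fin l) (ε : Fin l → ℤ) (z : ↥(D.group K)) : Prop where
  sq : z * z = 1
  norm : z ∈ Subgroup.normalizer (TT D K : Set ↥(D.group K))
  pos : ∀ i (t : K), z * xc hp (sr i) t * z⁻¹ = xc hp (-sr (γ i)) ((ε i : K) * t)
  neg : ∀ i (t : K), z * xc hp (-sr i) t * z⁻¹ = xc hp (sr (γ i)) ((ε i : K) * t)
  sgn : ∀ i, ε i = 1 ∨ ε i = -1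
  root : ∀ a, IsRoot cs hp.isCartan a → ∃ e : ℤ, (e = 1 ∨ e = -1) ∧
    (∀ t : K, z * xc hp a t * z⁻¹ = xc hp (rep cs hp.isCartan w a) ((e : K) * t)) ∧
    (∀ t : K, z * xc hp (-a) t * z⁻¹ = xc hp (-rep cs hp.isCartan w a) ((e : K) * t))

theorem exists_ZD_neg (hN : NSys M (TT D K) (nc hp K)) {w : W} (hw : ∀ x, rep cs hp.isCartan w x = -x) :
    ∃ (ε : Fin l → ℤ) (z : ↥(D.group K)), ZD hp cs w id ε z := by
  obtain ⟨z, hz, h⟩ := exists_lift hp cs hN w
  choose e he using fun i => h (sr i) (isRoot_sr cs hp.isCartan i)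
  have hpos : ∀ i (t : K), z * xc hp (sr i) t * z⁻¹ = xc hp (-sr i) ((e i : K) * t) := fun i t => by
    rw [(he i).2.1 t, hw]
  have hneg : ∀ i (t : K), z * xc hp (-sr i) t * z⁻¹ = xc hp (sr i) ((e i : K) * t) := fun i t => by
    rw [(he i).2.2 t, hw, neg_neg]
  refine ⟨e, z, ?_, hz.mem_normalizer, hpos, hneg, fun i => (he i).1, h⟩
  have hww : w * w = 1 := by
    refine ChevalleyStructure.CoxeterGeom.eq_one_of_fix cs hp.isCartan (w * w) fun i => ?_
    rw [map_mul, Module.End.mul_apply, hw, hw, neg_neg]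
  have hzT : z * z ∈ TT D K := by
    have h1 := hz.mul hz
    rw [hww] at h1
    exact h1.mem_of_one
  refine cX_inj hp hzT (one_mem _) fun i => ?_
  rw [cX_one, cX_sr]
  have hi := simple_lt hp.inList (lt_rank hp i)
  rw [← vec_simple hp i]
  refine ch_eq hp hi hzT ?_
  rw [vec_simple hp i]
  have e1 : z * z * xc hp (sr i) (1 : K) * (z * z)⁻¹ = z * (z * xc hp (sr i) 1 * z⁻¹) * z⁻¹ := by group
  rw [e1, hpos, hneg]
  congr 1
  rcases (he i).1 with h3 | h3 <;> rw [h3] <;> simp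

theorem exists_ZD (hN : NSys M (TT D K) (nc hp K)) {w : W} {γ : Fin l → Fin l} (hγ : ∀ i, γ (γ i) = i)
    (hw : ∀ i, rep cs hp.isCartan w (sr i) = -sr (γ i)) {d : ℕ} {B : Fin l → Fin l → ℤ} (hB : InvC D l d B)
    (hd : Odd d) (ε : Fin l → ℤ) (hε : ∀ i, ε i = 1 ∨ ε i = -1) (hεγ : ∀ i, ε (γ i) = ε i) :
    ∃ z : ↥(D.group K), ZD hp cs w γ ε z := by
  obtain ⟨z, hz, h⟩ := exists_lift hp cs hN w
  choose e he using fun i => h (sr i) (isRoot_sr cs hp.isCartan i)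
  have hpos : ∀ i (t : K), z * xc hp (sr i) t * z⁻¹ = xc hp (-sr (γ i)) ((e i : K) * t) := fun i t => by
    rw [(he i).2.1 t, hw]
  have hneg : ∀ i (t : K), z * xc hp (-sr i) t * z⁻¹ = xc hp (sr (γ i)) ((e i : K) * t) := fun i t => by
    rw [(he i).2.2 t, hw, neg_neg]
  have hpm : ∀ i, ((e i * ε i : ℤ) : K) = 1 ∨ ((e i * ε i : ℤ) : K) = -1 := by
    intro i
    rcases (he i).1 with h1 | h1 <;> rcases hε i with h2 | h2 <;> rw [h1, h2] <;> simp
  have hne : ∀ i, ((e i * ε i : ℤ) : K) ≠ 0 := fun i => by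
    rcases hpm i with h1 | h1 <;> rw [h1]
    · exact one_ne_zero
    · exact neg_ne_zero.2 one_ne_zero
  obtain ⟨t, ht, htc⟩ := exists_cX hp (k := K) hB hd.pos.ne' (IsMC.of_prod (fun i => ((e i * ε i : ℤ) : K)) hne)
    (fun i => ⟨((e i * ε i : ℤ) : K), by
      rw [Finset.prod_eq_single i (fun j _ hj => by rw [sr_ne hj, zpow_zero])
        (fun h => absurd (Finset.mem_univ i) h), sr_self, zpow_one]
      rcases hpm i with h1 | h1 <;> rw [h1]
      · exact one_pow _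
      · exact hd.neg_one_pow⟩)
  have htsr : ∀ i, cX hp t (sr i) = ((e i * ε i : ℤ) : K) := by
    intro i
    rw [htc, Finset.prod_eq_single i (fun j _ hj => by rw [sr_ne hj, zpow_zero])
        (fun h => absurd (Finset.mem_univ i) h), sr_self, zpow_one]
  have hmc := isMC_cX hp ht
  have hact : ∀ a, IsRoot cs hp.isCartan a → ∀ c : K, t * xc hp a c * t⁻¹ = xc hp a (cX hp t a * c) := by
    intro a ha c
    rw [cX_root hp cs ht ha]
    obtain ⟨r, hr, rfl⟩ := (isRoot_iff hp cs a).1 ha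
    exact (act hp hr ht).2 c
  have hcpm : ∀ a : Fin l → ℤ, ∃ f : ℤ, (f = 1 ∨ f = -1) ∧ cX hp t a = (f : K) ∧ cX hp t (-a) = (f : K) := by
    have key : ∀ a : Fin l → ℤ, cX hp t a = 1 ∨ cX hp t a = -1 := by
      intro a
      rw [hmc.eq_prod]
      refine Finset.prod_induction _ (fun x : K => x = 1 ∨ x = -1) ?_ (.inl rfl) ?_
      · rintro x y (rfl | rfl) (rfl | rfl) <;> simp
      · intro i _
        rw [htsr]
        rcases hpm i with h1 | h1 <;> rw [h1]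
        · rw [one_zpow]; exact .inl rfl
        · rcases Int.even_or_odd (a i) with h2 | h2
          · rw [h2.neg_one_zpow]; exact .inl rfl
          · rw [h2.neg_one_zpow]; exact .inr rfl
    intro a
    rcases key a with h1 | h1
    · refine ⟨1, .inl rfl, by rw [h1]; simp, ?_⟩
      rw [hmc.neg, h1]; simp
    · refine ⟨-1, .inr rfl, by rw [h1]; simp, ?_⟩
      rw [hmc.neg, h1]; simp
  have hroot : ∀ a, IsRoot cs hp.isCartan a → ∃ e' : ℤ, (e' = 1 ∨ e' = -1) ∧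
      (∀ c : K, z * t * xc hp a c * (z * t)⁻¹ = xc hp (rep cs hp.isCartan w a) ((e' : K) * c)) ∧
      (∀ c : K, z * t * xc hp (-a) c * (z * t)⁻¹ = xc hp (-rep cs hp.isCartan w a) ((e' : K) * c)) := by
    intro a ha
    obtain ⟨e', he', h1, h2⟩ := h a ha
    obtain ⟨f, hf, h3, h4⟩ := hcpm a
    refine ⟨e' * f, ?_, fun c => ?_, fun c => ?_⟩
    · rcases he' with h5 | h5 <;> rcases hf with h6 | h6 <;> rw [h5, h6] <;> simp
    · have e1 : z * t * xc hp a c * (z * t)⁻¹ = z * (t * xc hp a c * t⁻¹) * z⁻¹ := by group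
      rw [e1, hact a ha, h1, h3]
      push_cast
      rw [mul_assoc]
    · have e1 : z * t * xc hp (-a) c * (z * t)⁻¹ = z * (t * xc hp (-a) c * t⁻¹) * z⁻¹ := by group
      rw [e1, hact (-a) ha.neg, h2, h4]
      push_cast
      rw [mul_assoc]
  have hee : ∀ i, (e i : K) * ((e i * ε i : ℤ) : K) = (ε i : K) := by
    intro i
    rcases (he i).1 with h1 | h1 <;> rw [h1] <;> simp
  have hpos' : ∀ i (c : K), z * t * xc hp (sr i) c * (z * t)⁻¹ = xc hp (-sr (γ i)) ((ε i : K) * c) := by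
    intro i c
    have e1 : z * t * xc hp (sr i) c * (z * t)⁻¹ = z * (t * xc hp (sr i) c * t⁻¹) * z⁻¹ := by group
    rw [e1, hact _ (isRoot_sr cs hp.isCartan i), hpos, htsr, ← mul_assoc, hee]
  have hneg' : ∀ i (c : K), z * t * xc hp (-sr i) c * (z * t)⁻¹ = xc hp (sr (γ i)) ((ε i : K) * c) := by
    intro i c
    have e1 : z * t * xc hp (-sr i) c * (z * t)⁻¹ = z * (t * xc hp (-sr i) c * t⁻¹) * z⁻¹ := by group
    have e2 : (((e i * ε i : ℤ) : K))⁻¹ = ((e i * ε i : ℤ) : K) := by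
      rcases hpm i with h1 | h1 <;> rw [h1] <;> simp
    rw [e1, hact _ (isRoot_sr cs hp.isCartan i).neg, hneg, hmc.neg, htsr, e2, ← mul_assoc, hee]
  have hzt : Rp cs hN w (z * t) := hz.mul_mem_right ht
  refine ⟨z * t, ?_, hzt.mem_normalizer, hpos', hneg', hε, hroot⟩
  have hww : w * w = 1 := by
    refine ChevalleyStructure.CoxeterGeom.eq_one_of_fix cs hp.isCartan (w * w) fun i => ?_
    change rep cs hp.isCartan (w * w) (sr i) = sr i
    rw [map_mul, Module.End.mul_apply, hw, map_neg, hw, neg_neg, hγ]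
  have hzT : (z * t) * (z * t) ∈ TT D K := by
    have h1 := hzt.mul hzt
    rw [hww] at h1
    exact h1.mem_of_one
  refine cX_inj hp hzT (one_mem _) fun i => ?_
  rw [cX_one, cX_sr]
  have hi := simple_lt hp.inList (lt_rank hp i)
  rw [← vec_simple hp i]
  refine ch_eq hp hi hzT ?_
  rw [vec_simple hp i]
  have e1 : (z * t) * (z * t) * xc hp (sr i) (1 : K) * ((z * t) * (z * t))⁻¹ =
      (z * t) * ((z * t) * xc hp (sr i) 1 * (z * t)⁻¹) * (z * t)⁻¹ := by group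
  rw [e1, hpos', hneg', hγ, hεγ]
  congr 1
  rcases hε i with h3 | h3 <;> rw [h3] <;> simp


/-! ### Consequences -/

/-- `X` has symmetric intertwiners of all determinants -/
def Sy {n : ℕ} {K : Type*} [Field K] (X : Matrix (Fin n) (Fin n) K) : Prop :=
  ∀ δ : K, δ ≠ 0 → ∃ H : Matrix (Fin n) (Fin n) K, H.transpose = H ∧ X.transpose * H = H * X ∧ H.det = δ

namespace ZD

variable {hp cs} {w : W} {γ : Fin l → Fin l} {ε : Fin l → ℤ} {z : ↥(D.group K)} (Z : ZD hp cs w γ ε z)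

include Z

theorem tor {s : ↥(D.group K)} (hs : s ∈ TT D K) (hγ : ∀ i, γ (γ i) = i)
    (hsγ : ∀ i, ch hp (sr (γ i)) s = ch hp (sr i) s) : z * s * z⁻¹ = s⁻¹ := by
  have hu : z * s * z⁻¹ ∈ TT D K := (Subgroup.mem_normalizer_iff.1 Z.norm s).1 hs
  refine cX_inj hp hu (inv_mem hs) fun j => ?_
  have key : ∀ i, cX hp (z * s * z⁻¹) (-sr (γ i)) = ch hp (sr i) s := by
    intro i
    have hr : D.neg (D.simple (γ i)) < D.nroots := neg_lt hp.inList (simple_lt hp.inList (lt_rank hp (γ i)))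
    have hv : vec D l (D.neg (D.simple (γ i))) = -sr (γ i) := by
      rw [vec_neg hp (simple_lt hp.inList (lt_rank hp (γ i))), vec_simple hp]
    have h1 := (act hp hr hu).2 ((ε i : K) * 1)
    rw [← cX_vec hp hu hr, hv] at h1
    have h2 : z * s * z⁻¹ * xc hp (-sr (γ i)) ((ε i : K) * 1) * (z * s * z⁻¹)⁻¹ =
        z * (s * xc hp (sr i) 1 * s⁻¹) * z⁻¹ := by
      rw [← Z.pos i 1]; group
    rw [h2, (ch_sr_act hp hs i).2, Z.pos] at h1
    rw [← hv] at h1
    have h3 := xc_inj hp hr h1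
    rw [hv] at h3
    have hε : (ε i : K) * (ε i : K) = 1 := by
      rcases Z.sgn i with h | h <;> rw [h] <;> simp
    have h4 : (ε i : K) ≠ 0 := left_ne_zero_of_mul_eq_one hε
    have h5 : (ε i : K) * ch hp (sr i) s = (ε i : K) * cX hp (z * s * z⁻¹) (-sr (γ i)) := by
      rw [mul_one] at h3
      rw [h3]; ring
    exact (mul_left_cancel₀ h4 h5).symm
  have h1 := key (γ j)
  rw [hγ, (isMC_cX hp hu).neg] at h1
  have h6 : cX hp s⁻¹ (sr j) = (cX hp s (sr j))⁻¹ := by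
    have h7 := cX_mul hp (inv_mem hs) hs (sr j)
    rw [inv_mul_cancel, cX_one] at h7
    exact (eq_inv_of_mul_eq_one_left h7.symm)
  rw [h6, cX_sr hp s, ← hsγ j, ← h1, inv_inv]

theorem block {n : ℕ} {r : Fin (n + 2) → Fin (n + 2) → ℕ} {s : Fin (n + 2) → Fin (n + 2) → K}
    {φ : Matrix.SpecialLinearGroup (Fin (n + 2)) K →* ↥(D.group K)} (hr : ∀ a b, a ≠ b → r a b < D.nroots)
    (hneg : ∀ a b, a ≠ b → r b a = D.neg (r a b))
    (hw : ∀ a b, a ≠ b → rep cs hp.isCartan w (vec D l (r a b)) = -vec D l (r a b))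
    (hs : ∀ a b, a ≠ b → s a b * s a b = 1)
    (hφ : ∀ a b (hab : a ≠ b) c, φ (Matrix.SpecialLinearGroup.transvection hab c) =
      xc hp (vec D l (r a b)) (s a b * c)) :
    ∃ (d : Fin (n + 2) → K) (hd : ∀ a, d a * d a = 1), ∀ A, z * φ A * z⁻¹ = φ (tau d hd A) := by
  have h0 : ∀ a b, ∃ e : ℤ, (e = 1 ∨ e = -1) ∧ (a ≠ b → ∀ t : K,
      z * xc hp (vec D l (r a b)) t * z⁻¹ = xc hp (vec D l (r b a)) ((e : K) * t)) := by
    intro a b
    by_cases hab : a = b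
    · exact ⟨1, .inl rfl, fun h => absurd hab h⟩
    · obtain ⟨e, he, h1, -⟩ := Z.root (vec D l (r a b)) (isRoot_vec hp cs (hr a b hab))
      refine ⟨e, he, fun _ t => ?_⟩
      rw [h1, hw a b hab, hneg a b hab, vec_neg hp (hr a b hab)]
  choose e he h1 using h0
  refine exists_tau Z.sq (η := fun a b => if a = b then 1 else s b a * (e a b : K) * s a b) (fun a b => ?_)
    (fun a b hab c => ?_) (fun a b hab c c' h => ?_)
  · by_cases hab : a = b
    · simp [hab]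
    · simp only [hab, if_false]
      have e1 : (e a b : K) * (e a b : K) = 1 := by
        rcases he a b with h | h <;> rw [h] <;> simp
      calc s b a * (e a b : K) * s a b * (s b a * (e a b : K) * s a b)
          = (s b a * s b a) * ((e a b : K) * (e a b : K)) * (s a b * s a b) := by ring
        _ = 1 := by rw [hs a b hab, hs b a (Ne.symm hab), e1]; ring
  · rw [hφ, hφ, h1 a b hab]
    congr 1
    simp only [hab, if_false]
    calc (e a b : K) * (s a b * c) = (s b a * s b a) * ((e a b : K) * (s a b * c)) := by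
          rw [hs b a hab.symm, one_mul]
      _ = _ := by ring
  · rw [hφ, hφ] at h
    have h2 := xc_inj hp (hr a b hab) h
    have h3 : s a b ≠ 0 := left_ne_zero_of_mul_eq_one (hs a b hab)
    exact mul_left_cancel₀ h3 h2

theorem inv_block {n : ℕ} {r : Fin (n + 2) → Fin (n + 2) → ℕ} {s : Fin (n + 2) → Fin (n + 2) → K}
    {φ : Matrix.SpecialLinearGroup (Fin (n + 2)) K →* ↥(D.group K)} (hr : ∀ a b, a ≠ b → r a b < D.nroots)
    (hneg : ∀ a b, a ≠ b → r b a = D.neg (r a b))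
    (hw : ∀ a b, a ≠ b → rep cs hp.isCartan w (vec D l (r a b)) = -vec D l (r a b))
    (hs : ∀ a b, a ≠ b → s a b * s a b = 1)
    (hφ : ∀ a b (hab : a ≠ b) c, φ (Matrix.SpecialLinearGroup.transvection hab c) =
      xc hp (vec D l (r a b)) (s a b * c)) (hγ : ∀ i, γ (γ i) = i) {s₀ : ↥(D.group K)} (hs₀ : s₀ ∈ TT D K)
    (hsγ : ∀ i, ch hp (sr (γ i)) s₀ = ch hp (sr i) s₀) (hcomm : ∀ A, s₀ * φ A = φ A * s₀)
    {X : Matrix.SpecialLinearGroup (Fin (n + 2)) K} (hX : Sy X.1) :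
    ∃ S, (z * φ S) * (z * φ S) = 1 ∧ (z * φ S) * (s₀ * φ X) * (z * φ S)⁻¹ = (s₀ * φ X)⁻¹ := by
  obtain ⟨d, hd, hτ⟩ := Z.block hr hneg hw hs hφ
  have hprod : (∏ a, d a) ≠ 0 := Finset.prod_ne_zero_iff.2 fun a _ => left_ne_zero_of_mul_eq_one (hd a)
  obtain ⟨H, hH, hXH, hdet⟩ := hX _ hprod
  obtain ⟨S, h1, h2⟩ := exists_S hd X hH hXH hdet
  obtain ⟨h3, h4⟩ := invol Z.sq hτ h1 h2
  refine ⟨S, h3, ?_⟩
  have h5 := Z.tor hs₀ hγ hsγ
  have h6 : (z * φ S) * s₀ * (z * φ S)⁻¹ = s₀⁻¹ := by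
    calc (z * φ S) * s₀ * (z * φ S)⁻¹ = z * (φ S * s₀) * (φ S)⁻¹ * z⁻¹ := by group
      _ = z * s₀ * z⁻¹ := by rw [← hcomm]; group
      _ = s₀⁻¹ := h5
  calc (z * φ S) * (s₀ * φ X) * (z * φ S)⁻¹
      = ((z * φ S) * s₀ * (z * φ S)⁻¹) * ((z * φ S) * φ X * (z * φ S)⁻¹) := by group
    _ = s₀⁻¹ * (φ X)⁻¹ := by rw [h6, h4]
    _ = (φ X * s₀)⁻¹ := by group
    _ = (s₀ * φ X)⁻¹ := by rw [← hcomm]

end ZD

/-- adding a commuting part -/
theorem combine {Y : Type*} [Group Y] {z S m c v : Y} (hz : z * z = 1) (hS : (z * S) * (z * S) = 1)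
    (hm : (z * m) * (z * m) = 1) (hSm : Commute S m) (hmc : Commute m c) (hSv : Commute S v) (hcv : Commute c v)
    (h1 : (z * S) * c * (z * S)⁻¹ = c⁻¹) (h2 : (z * m) * v * (z * m)⁻¹ = v⁻¹) :
    (z * S * m) * (z * S * m) = 1 ∧ (z * S * m) * (c * v) * (z * S * m)⁻¹ = (c * v)⁻¹ := by
  have hzi : z⁻¹ = z := inv_eq_of_mul_eq_one_left hz
  have e1 : z * S * z = S⁻¹ := eq_inv_of_mul_eq_one_left (by rw [← hS]; group)
  have e2 : z * m * z = m⁻¹ := eq_inv_of_mul_eq_one_left (by rw [← hm]; group)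
  constructor
  · calc (z * S * m) * (z * S * m) = (z * S * z) * (z⁻¹ * m * z) * (S * m) := by group
      _ = S⁻¹ * m⁻¹ * (S * m) := by rw [hzi, e1, e2]
      _ = S⁻¹ * m⁻¹ * (m * S) := by rw [hSm.eq]
      _ = 1 := by group
  · have e3 : m * c * m⁻¹ = c := by rw [hmc.eq]; group
    have e4 : S * v * S⁻¹ = v := by rw [hSv.eq]; group
    calc (z * S * m) * (c * v) * (z * S * m)⁻¹
        = (z * S * (m * c * m⁻¹) * S⁻¹ * z⁻¹) * (z * (S * m) * v * (S * m)⁻¹ * z⁻¹) := by group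
      _ = ((z * S) * c * (z * S)⁻¹) * (z * (m * S) * v * (m * S)⁻¹ * z⁻¹) := by rw [e3, hSm.eq]; group
      _ = c⁻¹ * (z * m * (S * v * S⁻¹) * m⁻¹ * z⁻¹) := by rw [h1]; group
      _ = c⁻¹ * ((z * m) * v * (z * m)⁻¹) := by rw [e4]; group
      _ = c⁻¹ * v⁻¹ := by rw [h2]
      _ = (v * c)⁻¹ := by group
      _ = (c * v)⁻¹ := by rw [hcv.eq]

end Cfsg.Agent.H335.Sr
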