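import Cfsg.Agent.H71.CovFull

/-!
# Symmetric intertwiners (helper335)

`exists_symm` : `X` with irreducible characteristic polynomial over a finite field: for every `δ ≠ 0` there is
`H = Hᵀ` with `Xᵀ H = H X` and `det H = δ`.
-/

set_option autoImplicit false
set_option linter.unusedSectionVars false

namespace Cfsg.Agent.H335.Sr

open Module Polynomial Matrix Cfsg.Agent.H71.CovScal Cfsg.Agent.H71.CovFull

universe u

theorem exists_symm {n : ℕ} {F : Type u} [Field F] [Finite F] (X : Matrix (Fin n) (Fin n) F)
    (hirr : Irreducible X.charpoly) (δ : F) :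
    ∃ H : Matrix (Fin n) (Fin n) F, Hᵀ = H ∧ Xᵀ * H = H * X ∧ H.det = δ := by
  classical
  set T : Module.End F (Fin n → F) := Matrix.toLin' X with hTdef
  have hcp : LinearMap.charpoly T = X.charpoly := Matrix.charpoly_toLin' X
  have hirr' : Irreducible (LinearMap.charpoly T) := hcp ▸ hirr
  have hf : Fact (Irreducible (LinearMap.charpoly T)) := ⟨hirr'⟩
  have hT : aeval T (LinearMap.charpoly T) = 0 := LinearMap.aeval_self_charpoly T
  let m1 : Module (AdjoinRoot (LinearMap.charpoly T)) (Fin n → F) := Module.compHom (Fin n → F) (act hT).toRingHom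
  have s1 : ∀ (k : AdjoinRoot (LinearMap.charpoly T)) (v : Fin n → F), k • v = act hT k v := fun _ _ => rfl
  have t1 : IsScalarTower F (AdjoinRoot (LinearMap.charpoly T)) (Fin n → F) := ⟨fun c k v => by
    rw [s1, s1, map_smul, LinearMap.smul_apply]⟩
  have f1 : FiniteDimensional (AdjoinRoot (LinearMap.charpoly T)) (Fin n → F) :=
    FiniteDimensional.right F (AdjoinRoot (LinearMap.charpoly T)) (Fin n → F)
  have f0 : FiniteDimensional F (AdjoinRoot (LinearMap.charpoly T)) := (AdjoinRoot.powerBasis hirr'.ne_zero).finite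
  have h1 := Module.finrank_mul_finrank F (AdjoinRoot (LinearMap.charpoly T)) (Fin n → F)
  have h2 : finrank F (AdjoinRoot (LinearMap.charpoly T)) = finrank F (Fin n → F) := by
    rw [finrank_adjoinRoot hirr'.ne_zero, LinearMap.charpoly_natDegree]
  have h4 : 0 < finrank F (AdjoinRoot (LinearMap.charpoly T)) := Module.finrank_pos
  have h3 : finrank (AdjoinRoot (LinearMap.charpoly T)) (Fin n → F) = 1 := by
    apply Nat.eq_of_mul_eq_mul_left h4
    rw [h1, h2, mul_one]
  obtain ⟨e⟩ := FiniteDimensional.nonempty_linearEquiv_of_finrank_eq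
    (R := AdjoinRoot (LinearMap.charpoly T)) (M := Fin n → F) (M' := AdjoinRoot (LinearMap.charpoly T))
    (by rw [Module.finrank_self, h3])
  set E := AdjoinRoot (LinearMap.charpoly T) with hE
  have heT : ∀ v : Fin n → F, e (X *ᵥ v) = AdjoinRoot.root (LinearMap.charpoly T) * e v := by
    intro v
    have : X *ᵥ v = (AdjoinRoot.root (LinearMap.charpoly T)) • v := by
      rw [s1, act_root hT, hTdef, Matrix.toLin'_apply]
    rw [this, map_smul, smul_eq_mul]
  -- a nonzero functional
  obtain ⟨lam, hlam⟩ : ∃ lam : E →ₗ[F] F, lam ≠ 0 := by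
    have hpos : 0 < finrank F (Module.Dual F E) := by rw [Subspace.dual_finrank_eq]; exact h4
    obtain ⟨lam, h⟩ := Module.finrank_pos_iff_exists_ne_zero.1 hpos
    exact ⟨lam, h⟩
  -- the Gram matrices
  let G : E → Matrix (Fin n) (Fin n) F := fun c => Matrix.of fun i j =>
    lam (c * (e (Pi.single i 1) * e (Pi.single j 1)))
  have hsum : ∀ v : Fin n → F, e v = ∑ j, v j • e (Pi.single j 1) := by
    intro v
    have hv : v = ∑ j, v j • (Pi.single j 1 : Fin n → F) := by
      funext i
      rw [Finset.sum_apply, Finset.sum_eq_single i]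
      · simp
      · intro b _ hb
        simp [Pi.single_eq_of_ne hb.symm]
      · intro h
        exact absurd (Finset.mem_univ i) h
    conv_lhs => rw [hv]
    rw [map_sum]
    refine Finset.sum_congr rfl fun j _ => ?_
    have : (v j • (Pi.single j 1 : Fin n → F)) = (algebraMap F E (v j)) • (Pi.single j 1 : Fin n → F) := by
      rw [algebraMap_smul]
    rw [this, map_smul, algebraMap_smul]
  have hGmul : ∀ (c : E) (i : Fin n) (v : Fin n → F),
      ∑ j, G c i j * v j = lam (c * (e (Pi.single i 1) * e v)) := by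
    intro c i v
    rw [hsum v, Finset.mul_sum, Finset.mul_sum, map_sum]
    refine Finset.sum_congr rfl fun j _ => ?_
    show lam (c * (e (Pi.single i 1) * e (Pi.single j 1))) * v j = _
    rw [mul_smul_comm, mul_smul_comm, map_smul, smul_eq_mul, mul_comm]
  have hGsym : ∀ c, (G c)ᵀ = G c := by
    intro c
    ext i j
    show lam (c * (e (Pi.single j 1) * e (Pi.single i 1))) = lam (c * (e (Pi.single i 1) * e (Pi.single j 1)))
    rw [mul_comm (e (Pi.single j 1))]
  have hGX : ∀ c, Xᵀ * G c = G c * X := by
    intro c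
    have key : ∀ i j, (G c * X) i j =
        lam (c * (AdjoinRoot.root (LinearMap.charpoly T) * (e (Pi.single i 1) * e (Pi.single j 1)))) := by
      intro i j
      rw [mul_apply]
      have h5 := hGmul c i (X *ᵥ Pi.single j 1)
      rw [heT] at h5
      have h6 : ∀ k, (X *ᵥ Pi.single j 1) k = X k j := fun k => by rw [mulVec_single_one]; rfl
      simp only [h6] at h5
      rw [h5]
      congr 2
      ring
    have h7 : Xᵀ * G c = (G c * X)ᵀ := by rw [transpose_mul, hGsym]
    rw [h7]
    ext i j
    rw [transpose_apply, key, key]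
    congr 3
    ring
  have hdet : ∀ c : E, (G c).det = Algebra.norm F c * (G 1).det := by
    intro c
    -- `G c = (matrix of c)ᵀ * G 1`
    let C : Matrix (Fin n) (Fin n) F := LinearMap.toMatrix' (act hT c)
    have hC : ∀ v, C *ᵥ v = c • v := fun v => by
      rw [s1]
      exact LinearMap.toMatrix'_mulVec (act hT c) v
    have h5 : G c = G 1 * C := by
      ext i j
      rw [mul_apply]
      have h6 := hGmul 1 i (C *ᵥ Pi.single j 1)
      have h7 : ∀ k, (C *ᵥ Pi.single j 1) k = C k j := fun k => by rw [mulVec_single_one]; rfl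
      simp only [h7] at h6
      rw [h6, hC, map_smul, smul_eq_mul]
      show lam (c * (e (Pi.single i 1) * e (Pi.single j 1))) = _
      congr 1
      ring
    rw [h5, det_mul, mul_comm]
    congr 1
    rw [← det_act hirr' c]
    exact LinearMap.det_toMatrix' (act hT c)
  have h1ne : (G 1).det ≠ 0 := by
    intro h0
    obtain ⟨v, hv0, hv⟩ := Matrix.exists_mulVec_eq_zero_iff.2 h0
    have hev : e v ≠ 0 := fun h => hv0 (e.map_eq_zero_iff.1 h)
    apply hlam
    -- `lam` vanishes on all `a * e v`
    have h5 : ∀ w : Fin n → F, lam (e w * e v) = 0 := by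
      intro w
      rw [hsum w, Finset.sum_mul, map_sum]
      refine Finset.sum_eq_zero fun i _ => ?_
      rw [smul_mul_assoc, map_smul]
      have h6 := hGmul 1 i v
      rw [one_mul] at h6
      rw [← h6]
      have h7 := congrFun hv i
      rw [mulVec, dotProduct] at h7
      rw [h7]
      simp
    ext a
    obtain ⟨w, hw⟩ := e.surjective (a * (e v)⁻¹)
    have h6 := h5 w
    rw [hw, mul_assoc, inv_mul_cancel₀ hev, mul_one] at h6
    rw [h6]
    rfl
  have f2 : Finite E := Module.finite_of_finite F
  obtain ⟨c, hc⟩ := FiniteField.norm_surjective F E (δ * (G 1).det⁻¹)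
  refine ⟨G c, hGsym c, hGX c, ?_⟩
  rw [hdet, hc, mul_assoc, inv_mul_cancel₀ h1ne, mul_one]

end Cfsg.Agent.H335.Sr
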