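import Cfsg.Agent.H335.Sr.Chev
import Cfsg.Agent.H335.Sr.Symm
import Cfsg.Agent.H150.MF.Big

/-!
# Symmetric intertwiners of cyclic matrices (helper335)

* `Sy.of_cls` : a cyclic matrix whose centralizer has elements of every determinant has symmetric intertwiners of
  every determinant;
* `Sy.of_irreducible`, `Sy.of_nice`, `Sy.conj`, `Sy.conj_gl`, `Sy.inv`.
-/

set_option autoImplicit false
set_option linter.unusedSectionVars false

namespace Cfsg.Agent.H335.Sr

open Module Polynomial Matrix Cfsg.Agent.H166.Cov Cfsg.Agent.H150.MF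

universe u

variable {F : Type u} [Field F] {n : ℕ}

/-- the matrix with columns `X ^ j v` -/
def cyc (X : Matrix (Fin n) (Fin n) F) (v : Fin n → F) : Matrix (Fin n) (Fin n) F :=
  Matrix.of fun i j => ((X ^ (j : ℕ)) *ᵥ v) i

theorem mul_cyc (X K : Matrix (Fin n) (Fin n) F) (v : Fin n → F) (i j : Fin n) :
    (K * cyc X v) i j = (K *ᵥ ((X ^ (j : ℕ)) *ᵥ v)) i := by
  rw [mul_apply]
  rfl

/-- all intertwiners of a cyclic matrix are symmetric -/
theorem symm_of_cyc {X K : Matrix (Fin n) (Fin n) F} {v : Fin n → F} (hv : IsUnit (cyc X v).det)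
    (hK : Xᵀ * K = K * X) : Kᵀ = K := by
  have hpow : ∀ i : ℕ, (Xᵀ) ^ i * K = K * X ^ i := by
    intro i
    induction i with
    | zero => simp
    | succ i ih => rw [pow_succ, pow_succ, mul_assoc, hK, ← mul_assoc, ih, mul_assoc]
  have h1 : ∀ i j : Fin n, ((cyc X v)ᵀ * (K * cyc X v)) i j = v ⬝ᵥ ((K * X ^ ((i : ℕ) + (j : ℕ))) *ᵥ v) := by
    intro i j
    rw [mul_apply]
    have h2 : ∀ k, (cyc X v)ᵀ i k * (K * cyc X v) k j =
        ((X ^ (i : ℕ)) *ᵥ v) k * (K *ᵥ ((X ^ (j : ℕ)) *ᵥ v)) k := fun k => by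
      rw [mul_cyc]
      rfl
    simp only [h2]
    change ((X ^ (i : ℕ)) *ᵥ v) ⬝ᵥ (K *ᵥ ((X ^ (j : ℕ)) *ᵥ v)) = _
    rw [pow_add, ← mul_assoc, ← hpow, ← transpose_pow, ← mulVec_mulVec, ← mulVec_mulVec]
    rw [dotProduct_mulVec v, vecMul_transpose]
  have h3 : (cyc X v)ᵀ * (Kᵀ * cyc X v) = (cyc X v)ᵀ * (K * cyc X v) := by
    have h4 : (cyc X v)ᵀ * (Kᵀ * cyc X v) = ((cyc X v)ᵀ * (K * cyc X v))ᵀ := by
      rw [transpose_mul, transpose_mul, transpose_transpose, mul_assoc]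
    rw [h4]
    ext i j
    rw [transpose_apply, h1, h1, add_comm]
  have hu : IsUnit (cyc X v) := (Matrix.isUnit_iff_isUnit_det _).2 hv
  have hu' : IsUnit (cyc X v)ᵀ := by
    rw [Matrix.isUnit_iff_isUnit_det, det_transpose]
    exact hv
  exact hu.mul_right_cancel (hu'.mul_left_cancel h3)

/-- a cocyclic functional gives a cyclic vector and an intertwiner -/
theorem exists_cyc {X : Matrix (Fin n) (Fin n) F} (h : Coc (Matrix.toLin' X)) :
    ∃ (v : Fin n → F) (H : Matrix (Fin n) (Fin n) F), IsUnit (cyc X v).det ∧ IsUnit H.det ∧ Xᵀ * H = H * X := by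
  obtain ⟨φ, hφ⟩ := h
  -- the rows `φ X ^ i`
  set R : Matrix (Fin n) (Fin n) F := Matrix.of fun i j => φ ((X ^ (i : ℕ)) *ᵥ Pi.single j 1) with hR
  have hRv : ∀ (i : Fin n) (v : Fin n → F), (R *ᵥ v) i = φ ((X ^ (i : ℕ)) *ᵥ v) := by
    intro i v
    have h1 : v = ∑ j, v j • (Pi.single j 1 : Fin n → F) := by
      funext k
      rw [Finset.sum_apply, Finset.sum_eq_single k]
      · simp
      · intro b _ hb
        simp [Pi.single_eq_of_ne hb.symm]
      · intro h
        exact absurd (Finset.mem_univ k) h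
    conv_rhs => rw [h1]
    rw [mulVec_sum, map_sum, mulVec, dotProduct]
    refine Finset.sum_congr rfl fun j _ => ?_
    rw [mulVec_smul, map_smul, smul_eq_mul, mul_comm]
    rfl
  have hRinj : ∀ v : Fin n → F, R *ᵥ v = 0 → v = 0 := by
    intro v hv
    have h0 : ∀ i : ℕ, i < n → φ ((X ^ i) *ᵥ v) = 0 := by
      intro i hi
      have := congrFun hv ⟨i, hi⟩
      rw [hRv] at this
      exact this
    have hall : ∀ k : ℕ, φ ((X ^ k) *ᵥ v) = 0 := by
      intro k
      have h1 : X ^ k = aeval X ((Polynomial.X : F[X]) ^ k %ₘ X.charpoly) := by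
        have h2 := Polynomial.modByMonic_add_div ((Polynomial.X : F[X]) ^ k) X.charpoly
        have h3 := congrArg (aeval X) h2
        rw [map_add, map_mul, Matrix.aeval_self_charpoly, zero_mul, add_zero, map_pow, aeval_X] at h3
        exact h3.symm
      rw [h1]
      set g := (Polynomial.X : F[X]) ^ k %ₘ X.charpoly with hg
      rw [Polynomial.aeval_eq_sum_range, Matrix.sum_mulVec, map_sum]
      refine Finset.sum_eq_zero fun i hi => ?_
      rw [smul_mulVec, map_smul]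
      by_cases hc : g.coeff i = 0
      · rw [hc, zero_smul]
      · have h5 : i < n := by
          have h6 : g.degree < X.charpoly.degree := Polynomial.degree_modByMonic_lt _ (Matrix.charpoly_monic X)
          have h7 : (i : WithBot ℕ) ≤ g.degree := Polynomial.le_degree_of_ne_zero hc
          rw [Matrix.charpoly_degree_eq_dim, Fintype.card_fin] at h6
          exact_mod_cast h7.trans_lt h6
        rw [h0 i h5, smul_zero]
    have hS := hφ (⨅ k : ℕ, LinearMap.ker (φ ∘ₗ Matrix.toLin' (X ^ k))) (fun x hx => by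
        have := (Submodule.mem_iInf _).1 hx 0
        rw [LinearMap.mem_ker, LinearMap.comp_apply, toLin'_apply, pow_zero, one_mulVec] at this
        exact this) (fun x hx => by
        refine (Submodule.mem_iInf _).2 fun k => ?_
        have := (Submodule.mem_iInf _).1 hx (k + 1)
        rw [LinearMap.mem_ker, LinearMap.comp_apply, toLin'_apply] at this ⊢
        rw [toLin'_apply, mulVec_mulVec, ← pow_succ]
        exact this)
    have hv' : v ∈ (⨅ k : ℕ, LinearMap.ker (φ ∘ₗ Matrix.toLin' (X ^ k))) := by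
      refine (Submodule.mem_iInf _).2 fun k => ?_
      rw [LinearMap.mem_ker, LinearMap.comp_apply, toLin'_apply]
      exact hall k
    rw [hS] at hv'
    exact (Submodule.mem_bot F).1 hv'
  have hRdet : R.det ≠ 0 := by
    intro h0
    obtain ⟨v, hv0, hv⟩ := Matrix.exists_mulVec_eq_zero_iff.2 h0
    exact hv0 (hRinj v hv)
  rcases Nat.eq_zero_or_pos n with hn | hn
  · subst hn
    refine ⟨0, 1, ?_, ?_, ?_⟩
    · rw [det_isEmpty]; exact isUnit_one
    · rw [det_one]; exact isUnit_one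
    · exact Subsingleton.elim _ _
  -- the cyclic vector
  obtain ⟨v, hv⟩ : ∃ v : Fin n → F, R *ᵥ v = Pi.single ⟨n - 1, by omega⟩ 1 := by
    refine ⟨R⁻¹ *ᵥ Pi.single ⟨n - 1, by omega⟩ 1, ?_⟩
    rw [mulVec_mulVec, mul_nonsing_inv R (isUnit_iff_ne_zero.2 hRdet), one_mulVec]
  have hlow : ∀ k : ℕ, k < n → φ ((X ^ k) *ᵥ v) = if k = n - 1 then 1 else 0 := by
    intro k hk
    have h1 := congrFun hv ⟨k, hk⟩
    rw [hRv] at h1
    change φ ((X ^ k) *ᵥ v) = _ at h1
    rw [h1]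
    by_cases h2 : k = n - 1
    · subst h2
      simp
    · rw [if_neg h2, Pi.single_eq_of_ne]
      intro h3
      exact h2 (congrArg Fin.val h3)
  have hG : ∀ i j : Fin n, (R * cyc X v) i j = φ ((X ^ ((i : ℕ) + (j : ℕ))) *ᵥ v) := by
    intro i j
    rw [mul_cyc, hRv, mulVec_mulVec, ← pow_add]
  have hdet : ((R * cyc X v).submatrix id Fin.revPerm).det = 1 := by
    rw [det_of_isLowerTriangular]
    · refine Finset.prod_eq_one fun i _ => ?_
      rw [submatrix_apply, hG, id, Fin.revPerm_apply, Fin.val_rev]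
      have h3 : (i : ℕ) + (n - (i + 1)) = n - 1 := by omega
      rw [h3, hlow (n - 1) (by omega), if_pos rfl]
    · intro i j hij
      rw [submatrix_apply, hG, id, Fin.revPerm_apply, Fin.val_rev]
      have hij' : (i : ℕ) < j := hij
      have h3 : (i : ℕ) + (n - (j + 1)) < n := by omega
      rw [hlow _ h3, if_neg (by omega)]
  have hdet' : (R * cyc X v).det ≠ 0 := by
    intro h0
    rw [det_permute', h0, mul_zero] at hdet
    exact zero_ne_one hdet
  have hC : (cyc X v).det ≠ 0 := by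
    rw [det_mul] at hdet'
    exact right_ne_zero_of_mul hdet'
  have hCu : IsUnit (cyc X v).det := isUnit_iff_ne_zero.2 hC
  have hsymG : (R * cyc X v)ᵀ = R * cyc X v := by
    ext i j
    rw [transpose_apply, hG, hG, add_comm]
  have hG' : ∀ i j : Fin n, (R * (X * cyc X v)) i j = φ ((X ^ ((i : ℕ) + (j : ℕ) + 1)) *ᵥ v) := by
    intro i j
    rw [← mul_assoc, mul_cyc, ← mulVec_mulVec, hRv, mulVec_mulVec, mulVec_mulVec, ← pow_succ, ← pow_add,
      show (i : ℕ) + 1 + (j : ℕ) = (i : ℕ) + (j : ℕ) + 1 by omega]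
  have hsymG' : (R * (X * cyc X v))ᵀ = R * (X * cyc X v) := by
    ext i j
    rw [transpose_apply, hG', hG', add_comm (j : ℕ)]
  refine ⟨v, Rᵀ * (cyc X v)⁻¹, hCu, ?_, ?_⟩
  · rw [det_mul, det_transpose]
    refine (isUnit_iff_ne_zero.2 hRdet).mul ?_
    rw [det_nonsing_inv]
    exact (isUnit_iff_ne_zero.2 (by
      rw [Ring.inverse_eq_inv']
      exact inv_ne_zero hC))
  · set C := cyc X v with hCdef
    have hu : IsUnit C := (Matrix.isUnit_iff_isUnit_det _).2 hCu
    have hu' : IsUnit Cᵀ := by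
      rw [Matrix.isUnit_iff_isUnit_det, det_transpose]
      exact hCu
    have e1 : Rᵀ * C⁻¹ * C = Rᵀ := by rw [mul_assoc, nonsing_inv_mul C hCu, mul_one]
    have e2 : Cᵀ * (Rᵀ * C⁻¹) = R := by
      apply hu.mul_right_cancel
      rw [mul_assoc, e1, ← transpose_mul, hsymG]
    apply hu.mul_right_cancel
    apply hu'.mul_left_cancel
    calc Cᵀ * (Xᵀ * (Rᵀ * C⁻¹) * C) = Cᵀ * (Xᵀ * Rᵀ) := by rw [mul_assoc Xᵀ, e1]
      _ = (R * (X * C))ᵀ := by rw [transpose_mul, transpose_mul, mul_assoc]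
      _ = R * (X * C) := hsymG'
      _ = Cᵀ * (Rᵀ * C⁻¹) * (X * C) := by rw [e2]
      _ = Cᵀ * (Rᵀ * C⁻¹ * X * C) := by simp only [mul_assoc]

theorem Sy.of_cls {X : Matrix (Fin n) (Fin n) F} (h : Cls X) : Sy X := by
  intro δ hδ
  obtain ⟨v, H, hv, hH, hXH⟩ := exists_cyc h.1
  have hH0 : H.det ≠ 0 := hH.ne_zero
  obtain ⟨e, he, hcomm⟩ := h.2 (δ * H.det⁻¹) (mul_ne_zero hδ (inv_ne_zero hH0))
  set C : Matrix (Fin n) (Fin n) F := LinearMap.toMatrix' (e : (Fin n → F) →ₗ[F] (Fin n → F)) with hC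
  have hCdet : C.det = δ * H.det⁻¹ := by rw [hC, LinearMap.det_toMatrix']; exact he
  have hCX : C * X = X * C := by
    apply Matrix.toLin'.injective
    refine LinearMap.ext fun x => ?_
    rw [toLin'_mul, toLin'_mul, LinearMap.comp_apply, LinearMap.comp_apply, hC, toLin'_toMatrix']
    exact hcomm x
  have hK : Xᵀ * (H * C) = H * C * X := by
    rw [← mul_assoc, hXH, mul_assoc, mul_assoc, hCX]
  refine ⟨H * C, symm_of_cyc hv hK, hK, ?_⟩
  rw [det_mul, hCdet, mul_comm, mul_assoc, inv_mul_cancel₀ hH0, mul_one]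

theorem Sy.of_nice {X : Matrix (Fin n) (Fin n) F} (h : NiceM X) : Sy X := Sy.of_cls h.cls

theorem Sy.of_irreducible [Finite F] {X : Matrix (Fin n) (Fin n) F} (h : Irreducible X.charpoly) : Sy X :=
  fun δ _ => exists_symm X h δ

/-- conjugates -/
theorem Sy.conj_mat {X g g' : Matrix (Fin n) (Fin n) F} (h : Sy X) (hg : g * g' = 1) : Sy (g * X * g') := by
  have hg' : g' * g = 1 := mul_eq_one_comm.1 hg
  have hd : g'.det * g.det = 1 := by rw [← det_mul, hg', det_one]
  have hne : g.det ≠ 0 := right_ne_zero_of_mul_eq_one hd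
  intro δ hδ
  obtain ⟨H, h1, h2, h3⟩ := h (δ * (g.det * g.det)) (mul_ne_zero hδ (mul_ne_zero hne hne))
  have ht : gᵀ * g'ᵀ = 1 := by rw [← transpose_mul, hg', transpose_one]
  refine ⟨g'ᵀ * H * g', ?_, ?_, ?_⟩
  · rw [transpose_mul, transpose_mul, h1, transpose_transpose, mul_assoc]
  · rw [transpose_mul, transpose_mul]
    calc g'ᵀ * (Xᵀ * gᵀ) * (g'ᵀ * H * g') = g'ᵀ * (Xᵀ * ((gᵀ * g'ᵀ) * H)) * g' := by simp only [mul_assoc]
      _ = g'ᵀ * (H * X) * g' := by rw [ht, one_mul, h2]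
      _ = g'ᵀ * H * (g' * g) * X * g' := by rw [hg', mul_one, mul_assoc (g'ᵀ) H X]
      _ = g'ᵀ * H * g' * (g * X * g') := by simp only [mul_assoc]
  · rw [det_mul, det_mul, det_transpose, h3]
    calc g'.det * (δ * (g.det * g.det)) * g'.det = δ * (g'.det * g.det) * (g'.det * g.det) := by ring
      _ = δ := by rw [hd, mul_one, mul_one]

theorem Sy.conj {X : Matrix.SpecialLinearGroup (Fin n) F} (h : Sy X.1) (g : Matrix.SpecialLinearGroup (Fin n) F) :
    Sy (g * X * g⁻¹).1 := by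
  have h1 := h.conj_mat (g := g.1) (g' := (g⁻¹).1) (by
    have := congrArg Subtype.val (mul_inv_cancel g)
    exact this)
  exact h1

theorem Sy.inv {X : Matrix.SpecialLinearGroup (Fin n) F} (h : Sy X.1) : Sy (X⁻¹).1 := by
  intro δ hδ
  obtain ⟨H, h1, h2, h3⟩ := h δ hδ
  refine ⟨H, h1, ?_, h3⟩
  have e1 : X.1 * (X⁻¹).1 = 1 := congrArg Subtype.val (mul_inv_cancel X)
  have e2 : (X⁻¹).1 * X.1 = 1 := congrArg Subtype.val (inv_mul_cancel X)
  have e3 : ((X⁻¹).1)ᵀ * (X.1)ᵀ = 1 := by rw [← transpose_mul, e1, transpose_one]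
  calc ((X⁻¹).1)ᵀ * H = ((X⁻¹).1)ᵀ * (H * (X.1 * (X⁻¹).1)) := by rw [e1, mul_one]
    _ = ((X⁻¹).1)ᵀ * (H * X.1) * (X⁻¹).1 := by simp only [mul_assoc]
    _ = (((X⁻¹).1)ᵀ * (X.1)ᵀ) * H * (X⁻¹).1 := by rw [← h2]; simp only [mul_assoc]
    _ = H * (X⁻¹).1 := by rw [e3, one_mul]

end Cfsg.Agent.H335.Sr
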