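import Cfsg.Agent.H335.Sr.Chev
import Cfsg.Agent.H130.WeylTab

/-!
# The involutions over `-1` and over the graph automorphism of `E₆` (helper335)

For a finite field `K`:

* `F4`, `E8` : `w = -1`, every choice of signs;  `E7`, `G2` : `w = -1`, some signs;
* `E6` : `w α_i = -α_{γ i}`, every `γ`-invariant choice of signs.
-/

set_option autoImplicit false
set_option linter.unusedSectionVars false

namespace Cfsg.Agent.H335.Sr

open CoxeterSystem Cfsg Cfsg.Lie Cfsg.Lie.ChevalleyDatum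
open Cfsg.Agent.ChevalleyStructure Cfsg.Agent.ChevalleyStructure.Elts Cfsg.Agent.ChevalleyStructure.CoxeterGeom
  Cfsg.Agent.ChevalleyStructure.CoxeterGeomTypes Cfsg.Agent.ChevalleyStructure.NPerm
open Cfsg.Agent.Tits.Roots Cfsg.Agent.Tits.Core Cfsg.Agent.Nodes Cfsg.Agent.Nodes.Reps Cfsg.Agent.Nodes.BNOf
  Cfsg.Agent.Nodes.RGDChev Cfsg.Agent.Nodes.Bruhat
open Cfsg.Agent.KFacts.RgdField Cfsg.Agent.KFacts.RgdChevCoord Cfsg.Agent.BpExc.TorCent Cfsg.Agent.BpExc.TorChev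
open Cfsg.Agent.H129.TorusChar Cfsg.Agent.H130.WeylCk Cfsg.Agent.H130.WeylTab

universe u

/-- equality of linear maps on the basis -/
theorem eq_of_sr' {l : ℕ} {f g : (Fin l → ℤ) →ₗ[ℤ] (Fin l → ℤ)} (h : ∀ i, f (sr i) = g (sr i)) (x : Fin l → ℤ) :
    f x = g x := by
  rw [IsMC.eq_sum_sr x, map_sum, map_sum]
  refine Finset.sum_congr rfl fun i _ => ?_
  rw [map_zsmul, map_zsmul, h i]

/-- a word acting as given on the basis -/
theorem rep_word' {l : ℕ} {A : Fin l → Fin l → ℤ} {Al : List (List ℤ)} (hA : MatList A Al) {M : CoxeterMatrix (Fin l)}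
    {W : Type*} [Group W] (cs : CoxeterSystem M W) (h : IsCartan M A) (L : List (Fin l)) (n : ℕ) (i : Fin l) :
    rep cs h (cs.wordProd L ^ n) (sr i) = toFn l (acn Al L n (bas l i)) := by
  rw [toFn_acn cs h hA L n _ (length_bas i.1), toFn_bas, map_pow]
  rfl

/-- `-γ` in the Weyl group -/
theorem exists_negGam {l : ℕ} {A : Fin l → Fin l → ℤ} {Al : List (List ℤ)} (hA : MatList A Al)
    {M : CoxeterMatrix (Fin l)} {W : Type*} [Group W] (cs : CoxeterSystem M W) (h : IsCartan M A) (L : List (Fin l))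
    (n : ℕ) (γ : Fin l → Fin l)
    (hck : ∀ i : Fin l, acn Al L n (bas l i) = (bas l (γ i)).map (fun a => -1 * a)) :
    ∃ w : W, ∀ i, rep cs h w (sr i) = -sr (γ i) := by
  refine ⟨cs.wordProd L ^ n, fun i => ?_⟩
  rw [rep_word' hA cs h L n i, hck i, toFn_smul, toFn_bas, neg_smul, one_smul]
  rfl

/-- the action of `-γ` on all vectors -/
theorem rep_negGam {l : ℕ} {A : Fin l → Fin l → ℤ} {M : CoxeterMatrix (Fin l)} {W : Type*} [Group W]
    (cs : CoxeterSystem M W) (h : IsCartan M A) {γ : Fin l → Fin l} (hγ : ∀ i, γ (γ i) = i) {w : W}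
    (hw : ∀ i, rep cs h w (sr i) = -sr (γ i)) (x : Fin l → ℤ) : rep cs h w x = -(fun i => x (γ i)) := by
  have h1 := eq_of_sr' (f := rep cs h w) (g := -LinearMap.funLeft ℤ ℤ γ) (fun i => by
    rw [hw, LinearMap.neg_apply]
    congr 1
    funext j
    rw [LinearMap.funLeft_apply]
    by_cases hj : γ j = i
    · have hj' : j = γ i := by rw [← hj, hγ]
      rw [hj, hj', sr_self, sr_self]
    · have hj' : j ≠ γ i := fun e => hj (by rw [e, hγ])
      rw [sr_ne hj', sr_ne hj]) x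
  rw [h1]
  rfl

section

variable (K : Type u) [Field K] [Finite K] {W : Type*} [Group W]

/-- the `N`-system of the group over a finite field -/
theorem nsysK {D : ChevalleyDatum} {l : ℕ} {M : CoxeterMatrix (Fin l)} (hp : IsType D l M) :
    NSys M (TT D K) (nc hp K) := by
  obtain ⟨p, hpc⟩ := CharP.exists K
  have : Fact p.Prime := ⟨(CharP.char_is_prime_or_zero K p).resolve_right (CharP.char_ne_zero_of_finite K p)⟩
  exact (rgd (K := K) hp M.toCoxeterSystem p).nsys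

/-- `-1` in general -/
theorem negOne {D : ChevalleyDatum} {l : ℕ} {M : CoxeterMatrix (Fin l)} (hp : IsType D l M) (cs : CoxeterSystem M W)
    {Al : List (List ℤ)} (hA : MatList (cartanOf D l) Al) (L : List (Fin l)) (n : ℕ)
    (hck : ∀ i : Fin l, acn Al L n (bas l i) = (bas l i).map (fun a => -1 * a)) :
    ∃ (w : W) (ε : Fin l → ℤ) (z : ↥(D.group K)), (∀ x, rep cs hp.isCartan w x = -x) ∧ ZD hp cs w id ε z := by
  obtain ⟨w, hw⟩ := exists_negGam hA cs hp.isCartan L n id hck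
  have hw' : ∀ x, rep cs hp.isCartan w x = -x := rep_negGam cs hp.isCartan (γ := id) (fun _ => rfl) hw
  obtain ⟨ε, z, h⟩ := exists_ZD_neg hp cs (nsysK K hp) hw'
  exact ⟨w, ε, z, hw', h⟩

/-- `-γ` in general, with given signs -/
theorem negGam {D : ChevalleyDatum} {l : ℕ} {M : CoxeterMatrix (Fin l)} (hp : IsType D l M) (cs : CoxeterSystem M W)
    {Al : List (List ℤ)} (hA : MatList (cartanOf D l) Al) (L : List (Fin l)) (n : ℕ) {γ : Fin l → Fin l}
    (hγ : ∀ i, γ (γ i) = i) (hck : ∀ i : Fin l, acn Al L n (bas l i) = (bas l (γ i)).map (fun a => -1 * a))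
    {d : ℕ} {B : Fin l → Fin l → ℤ} (hB : InvC D l d B) (hd : Odd d) (ε : Fin l → ℤ) (hε : ∀ i, ε i = 1 ∨ ε i = -1)
    (hεγ : ∀ i, ε (γ i) = ε i) :
    ∃ (w : W) (z : ↥(D.group K)), (∀ i, rep cs hp.isCartan w (sr i) = -sr (γ i)) ∧
      (∀ x, rep cs hp.isCartan w x = -(fun i => x (γ i))) ∧ ZD hp cs w γ ε z := by
  obtain ⟨w, hw⟩ := exists_negGam hA cs hp.isCartan L n γ hck
  obtain ⟨z, h⟩ := exists_ZD hp cs (nsysK K hp) hγ hw hB hd ε hε hεγ
  exact ⟨w, z, hw, rep_negGam cs hp.isCartan hγ hw, h⟩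

theorem zG2 (hp : IsType chevG2 2 CoxeterMatrix.G₂) (cs : CoxeterSystem CoxeterMatrix.G₂ W) :
    ∃ (w : W) (ε : Fin 2 → ℤ) (z : ↥(chevG2.group K)), (∀ x, rep cs hp.isCartan w x = -x) ∧ ZD hp cs w id ε z :=
  negOne K hp cs lists_G2 [0, 1] 3 (by decide +kernel)

theorem zE7 (hp : IsType chevE7 7 CoxeterMatrix.E₇) (cs : CoxeterSystem CoxeterMatrix.E₇ W) :
    ∃ (w : W) (ε : Fin 7 → ℤ) (z : ↥(chevE7.group K)), (∀ x, rep cs hp.isCartan w x = -x) ∧ ZD hp cs w id ε z :=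
  negOne K hp cs lists_E7 [0, 1, 2, 3, 4, 5, 6] 9 (by decide +kernel)

theorem zE8 (hp : IsType chevE8 8 CoxeterMatrix.E₈) (cs : CoxeterSystem CoxeterMatrix.E₈ W) :
    ∃ (w : W) (ε : Fin 8 → ℤ) (z : ↥(chevE8.group K)), (∀ x, rep cs hp.isCartan w x = -x) ∧ ZD hp cs w id ε z :=
  negOne K hp cs lists_E8 [0, 1, 2, 3, 4, 5, 6, 7] 15 (by decide +kernel)

theorem zE8' (hp : IsType chevE8 8 CoxeterMatrix.E₈) (cs : CoxeterSystem CoxeterMatrix.E₈ W) (ε : Fin 8 → ℤ)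
    (hε : ∀ i, ε i = 1 ∨ ε i = -1) :
    ∃ (w : W) (z : ↥(chevE8.group K)), (∀ x, rep cs hp.isCartan w x = -x) ∧ ZD hp cs w id ε z := by
  obtain ⟨w, z, -, h1, h2⟩ := negGam K hp cs lists_E8 [0, 1, 2, 3, 4, 5, 6, 7] 15 (γ := id) (fun _ => rfl)
    (by decide +kernel) invC_E8 odd_one ε hε (fun _ => rfl)
  exact ⟨w, z, h1, h2⟩

theorem zF4 (hp : IsType chevF4 4 CoxeterMatrix.F₄) (cs : CoxeterSystem CoxeterMatrix.F₄ W) (ε : Fin 4 → ℤ)
    (hε : ∀ i, ε i = 1 ∨ ε i = -1) :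
    ∃ (w : W) (z : ↥(chevF4.group K)), (∀ x, rep cs hp.isCartan w x = -x) ∧ ZD hp cs w id ε z := by
  obtain ⟨w, z, -, h1, h2⟩ := negGam K hp cs lists_F4 [0, 1, 2, 3] 6 (γ := id) (fun _ => rfl)
    (by decide +kernel) invC_F4 odd_one ε hε (fun _ => rfl)
  exact ⟨w, z, h1, h2⟩

/-- the graph automorphism of `E₆` -/
def g6 : Fin 6 → Fin 6 := ![5, 1, 4, 3, 2, 0]

theorem g6_g6 : ∀ i, g6 (g6 i) = i := by decide

theorem zE6 (hp : IsType chevE6 6 CoxeterMatrix.E₆) (cs : CoxeterSystem CoxeterMatrix.E₆ W) (ε : Fin 6 → ℤ)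
    (hε : ∀ i, ε i = 1 ∨ ε i = -1) (hεγ : ∀ i, ε (g6 i) = ε i) :
    ∃ (w : W) (z : ↥(chevE6.group K)), (∀ i, rep cs hp.isCartan w (sr i) = -sr (g6 i)) ∧
      (∀ x, rep cs hp.isCartan w x = -(fun i => x (g6 i))) ∧ ZD hp cs w g6 ε z :=
  negGam K hp cs lists_E6 [0, 3, 5, 1, 2, 4] 6 g6_g6 (by decide +kernel) invC_E6 (by decide) ε hε hεγ

end

end Cfsg.Agent.H335.Sr
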