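import Cfsg.Agent.H129.TorusChar
import Cfsg.Agent.ChevalleyStructure.ConjSimpleAll

/-!
# Lifts of Weyl group elements with signs (helper335, Ore / four involutions)

* `exists_lift` : every `w` has a representative `z` with `z x_r(a) z⁻¹ = x_{w r}(± a)`, the signs of `r` and `-r` agree;
* `exists_neg` : if `w` acts as `-1` then `z² = 1`.
-/

set_option autoImplicit false
set_option linter.unusedSectionVars false

namespace Cfsg.Agent.H335.Sr

open CoxeterSystem Cfsg Cfsg.Lie Cfsg.Lie.ChevalleyDatum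
open Cfsg.Agent.ChevalleyStructure Cfsg.Agent.ChevalleyStructure.Elts Cfsg.Agent.ChevalleyStructure.CoxeterGeom
  Cfsg.Agent.ChevalleyStructure.CoxeterGeomTypes Cfsg.Agent.ChevalleyStructure.NPerm
open Cfsg.Agent.Tits.Roots Cfsg.Agent.Tits.Core Cfsg.Agent.Nodes Cfsg.Agent.Nodes.Reps Cfsg.Agent.Nodes.BNOf
  Cfsg.Agent.Nodes.RGDChev Cfsg.Agent.Nodes.Bruhat
open Cfsg.Agent.KFacts.RgdField Cfsg.Agent.KFacts.RgdChevCoord Cfsg.Agent.BpExc.TorCent Cfsg.Agent.BpExc.TorChev
open Cfsg.Agent.H129.TorusChar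

universe u

variable {D : ChevalleyDatum} {l : ℕ} {M : CoxeterMatrix (Fin l)} (hp : IsType D l M) {K : Type u} [Field K]

/-- the signs of the simple reflections -/
theorem nc_conj (i : Fin l) {r : ℕ} (hr : r < D.nroots) (a : K) :
    nc hp K i * xc hp (vec D l r) a * (nc hp K i)⁻¹ =
      xc hp (vec D l (D.reflectRoot i r)) (((NSimple.eta D i r : ℤ) : K) * a) := by
  apply Subtype.ext
  rw [Subgroup.coe_mul, Subgroup.coe_mul, Subgroup.coe_inv, coe_xc hp hr,
    coe_xc hp (reflectRoot_lt hp.inList (lt_rank hp i) hr)]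
  show nG hp.inList (D.simple i) 1 * _ * (nG hp.inList (D.simple i) 1)⁻¹ = _
  rw [mul_inv_eq_iff_eq_mul]
  apply Units.ext
  rw [Units.val_mul, Units.val_mul, coe_nG, coe_xG, coe_xG]
  exact ConjSimpleAll.nMat_mul_x hp.inList (lt_rank hp i) hr a

include hp in
theorem eta_or (i : Fin l) {r : ℕ} (hr : r < D.nroots) : NSimple.eta D i r = 1 ∨ NSimple.eta D i r = -1 :=
  (NSimpleAll.facts hp.inList (lt_rank hp i)).eta_one r hr

include hp in
theorem eta_neg (i : Fin l) {r : ℕ} (hr : r < D.nroots) : NSimple.eta D i (D.neg r) = NSimple.eta D i r := by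
  have h := (NSimpleAll.facts hp.inList (lt_rank hp i)).eta_mul_neg r hr
  rcases eta_or hp i hr with h1 | h1 <;> rw [h1] at h ⊢ <;> linarith

variable {W : Type*} [Group W] (cs : CoxeterSystem M W)

/-- **Representatives with signs.** -/
theorem exists_lift (hN : NSys M (TT D K) (nc hp K)) (w : W) : ∃ z : ↥(D.group K), Rp cs hN w z ∧
    ∀ a, IsRoot cs hp.isCartan a → ∃ e : ℤ, (e = 1 ∨ e = -1) ∧
      (∀ t : K, z * xc hp a t * z⁻¹ = xc hp (rep cs hp.isCartan w a) ((e : K) * t)) ∧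
      (∀ t : K, z * xc hp (-a) t * z⁻¹ = xc hp (-rep cs hp.isCartan w a) ((e : K) * t)) := by
  induction w using cs.simple_induction_left with
  | one =>
    refine ⟨1, rp_one, fun a _ => ⟨1, .inl rfl, fun t => ?_, fun t => ?_⟩⟩
    · rw [map_one]
      simp
    · rw [map_one]
      simp
  | mul_simple_left w i ih =>
    obtain ⟨z, hz, h⟩ := ih
    refine ⟨nc hp K i * z, (rp_simple cs hN i).mul hz, fun a ha => ?_⟩
    obtain ⟨e, he, h1, h2⟩ := h a ha
    obtain ⟨r, hr, hra⟩ := (isRoot_iff hp cs _).1 (ha.act w)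
    have hnr : D.neg r < D.nroots := neg_lt hp.inList hr
    refine ⟨NSimple.eta D i r * e, ?_, fun t => ?_, fun t => ?_⟩
    · rcases eta_or hp i hr with h3 | h3 <;> rcases he with h4 | h4 <;> rw [h3, h4] <;> simp
    · have e1 : nc hp K i * z * xc hp a t * (nc hp K i * z)⁻¹ = nc hp K i * (z * xc hp a t * z⁻¹) * (nc hp K i)⁻¹ := by
        group
      rw [e1, h1, ← hra, nc_conj hp i hr, map_mul, Module.End.mul_apply, ← hra, rep_vec hp cs i hr]
      push_cast
      rw [mul_assoc]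
    · have e1 : nc hp K i * z * xc hp (-a) t * (nc hp K i * z)⁻¹ =
          nc hp K i * (z * xc hp (-a) t * z⁻¹) * (nc hp K i)⁻¹ := by
        group
      rw [e1, h2, ← hra, ← vec_neg hp hr, nc_conj hp i hnr, map_mul, Module.End.mul_apply, ← hra,
        ← rep_vec hp cs i hnr, vec_neg hp hr, map_neg, eta_neg hp i hr]
      push_cast
      rw [mul_assoc]

/-- an involution inducing `-1`: if `w` acts as `-1`, its representative with signs is an involution -/
theorem exists_neg (hN : NSys M (TT D K) (nc hp K)) {w : W} (hw : ∀ x, rep cs hp.isCartan w x = -x) :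
    ∃ z : ↥(D.group K), z * z = 1 ∧ ∀ a, IsRoot cs hp.isCartan a → ∃ e : ℤ, (e = 1 ∨ e = -1) ∧
      (∀ t : K, z * xc hp a t * z⁻¹ = xc hp (-a) ((e : K) * t)) ∧
      (∀ t : K, z * xc hp (-a) t * z⁻¹ = xc hp a ((e : K) * t)) := by
  obtain ⟨z, hz, h⟩ := exists_lift hp cs hN w
  have key : ∀ a, IsRoot cs hp.isCartan a → ∃ e : ℤ, (e = 1 ∨ e = -1) ∧
      (∀ t : K, z * xc hp a t * z⁻¹ = xc hp (-a) ((e : K) * t)) ∧
      (∀ t : K, z * xc hp (-a) t * z⁻¹ = xc hp a ((e : K) * t)) := by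
    intro a ha
    obtain ⟨e, he, h1, h2⟩ := h a ha
    refine ⟨e, he, fun t => ?_, fun t => ?_⟩
    · rw [h1, hw]
    · rw [h2, hw, neg_neg]
  refine ⟨z, ?_, key⟩
  have hww : w * w = 1 := by
    refine ChevalleyStructure.CoxeterGeom.eq_one_of_fix cs hp.isCartan (w * w) fun i => ?_
    rw [map_mul, Module.End.mul_apply, hw, hw, neg_neg]
  have hzT : z * z ∈ TT D K := by
    have h1 := hz.mul hz
    rw [hww] at h1
    exact h1.mem_of_one
  refine cX_inj hp hzT (one_mem _) fun i => ?_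
  rw [cX_one, cX_sr]
  obtain ⟨e, he, h1, h2⟩ := key (sr i) (isRoot_sr cs hp.isCartan i)
  have hi := simple_lt hp.inList (lt_rank hp i)
  rw [← vec_simple hp i]
  refine ch_eq hp hi hzT ?_
  rw [vec_simple hp i]
  have e1 : z * z * xc hp (sr i) (1 : K) * (z * z)⁻¹ = z * (z * xc hp (sr i) 1 * z⁻¹) * z⁻¹ := by group
  rw [e1, h1, h2]
  congr 1
  rcases he with rfl | rfl <;> simp

end Cfsg.Agent.H335.Sr
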